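import Groth.Agent.VAFibre.Span
import Groth.Agent.VeryAmpleX.CriterionApps
import Groth.Agent.VeryAmpleX.CriterionPn
import Groth.Agent.VeryAmple.Main
import Groth.Agent.S10861

/-!
# Very ampleness spreads out from a fibre with vanishing first cohomology
-/

noncomputable section

set_option linter.style.haveILetI false
set_option linter.unusedSectionVars false
set_option backward.isDefEq.respectTransparency false
set_option backward.isDefEq.respectTransparency.types false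
set_option maxHeartbeats 2000000
set_option synthInstance.maxHeartbeats 400000

universe u

open CategoryTheory CategoryTheory.Limits AlgebraicGeometry TopologicalSpace Opposite

namespace Groth.Agent.VAFibre

open Groth.Agent Groth.Agent.InvX Groth.Agent.H23

theorem immAt_of_comp {A P S : Scheme.{u}} (r : A ⟶ P) (h : P ⟶ S) {O1 : P.Modules} (hO1 : PicF.IsInvertible O1)
    (himm : ∀ z, VeryAmpleX.ImmAt h O1 z) (W : S.Opens) [IsImmersion (r ∣_ (h ⁻¹ᵁ W))] (a : A)
    (ha : h (r a) ∈ W) : VeryAmpleX.ImmAt (r ≫ h) ((Scheme.Modules.pullback r).obj O1) a := by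
  have h1 := VeryAmpleX.ImmAt.restrict hO1 W ((r ∣_ (h ⁻¹ᵁ W)) (⟨a, ha⟩ : (r ⁻¹ᵁ (h ⁻¹ᵁ W) : A.Opens).toScheme)) (himm _)
  have h2 := VeryAmpleX.ImmAt.pullback (x := (⟨a, ha⟩ : (r ⁻¹ᵁ (h ⁻¹ᵁ W) : A.Opens).toScheme))
    (ParaFX.isInvertible_restrict (h ⁻¹ᵁ W).ι hO1) (r ∣_ (h ⁻¹ᵁ W)) h1
  rw [← morphismRestrict_comp] at h2
  refine VeryAmpleX.ImmAt.of_restrict (f := r ≫ h) W (⟨a, ha⟩ : ((r ≫ h) ⁻¹ᵁ W : A.Opens).toScheme) (h2.of_iso ?_)
  exact (Scheme.Modules.pullback _).mapIso ((Scheme.Modules.restrictFunctorIsoPullback _).app O1) ≪≫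
    (Scheme.Modules.pullbackComp _ _).app O1 ≪≫
    (Scheme.Modules.pullbackCongr (morphismRestrict_ι r (h ⁻¹ᵁ W))).app O1 ≪≫
    ((Scheme.Modules.pullbackComp _ r).app O1).symm ≪≫
    ((Scheme.Modules.restrictFunctorIsoPullback _).app _).symm

theorem pullSec_eq_projUP {X Y : Scheme.{u}} (g : X ⟶ Y) (M : Y.Modules) (s : Γ(M, ⊤)) :
    (ProjUP.pullSec g M s : Γ((Scheme.Modules.pullback g).obj M, ⊤)) =
      QCoh.pullSec g M (le_top : (⊤ : X.Opens) ≤ g ⁻¹ᵁ ⊤) s :=
  (QCoh.map_id' (M := (Scheme.Modules.pullback g).obj M) _ _).symm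

theorem locus_pullSec {X Y : Scheme.{u}} (g : X ⟶ Y) {M : Y.Modules} (hM : PicF.IsInvertible M) {V : Y.Opens}
    (hle : (⊤ : X.Opens) ≤ g ⁻¹ᵁ V) (x : Γ(M, V)) :
    AmpleX.locus (QCoh.pullSec g M hle x) = g ⁻¹ᵁ AmpleX.locus x := by
  show AmpleX.locus (AModX.res _ hle (InvX.pullElt g x)) = _
  rw [AmpleX.locus_res, AmpleX.locus_pullElt hM g x]
  exact inf_eq_left.2 le_top

theorem mem_trivBasic_locus {X : Scheme.{u}} {L : X.Modules} {s : Γ(L, ⊤)} {x : X}
    (h : x ∈ AmpleX.locus s) : x ∈ TrivBasic.locus s := by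
  obtain ⟨V, hV, hxV, hf⟩ := AmpleX.mem_locus.1 h
  exact TrivBasic.mem_locus_iff.2 ⟨V, hxV, hf⟩

variable {X Y : Scheme.{u}} (f : X ⟶ Y)

/-- A module very ample on a fibre with vanishing first cohomology has coordinates near the fibre. -/
theorem exists_nhd_immAt [IsProper f] [Flat f] [LocallyOfFinitePresentation f] {L : X.Modules}
    (hL : PicF.IsInvertible L) (y : Y)
    (hva : RelAmple.IsRelVeryAmplePn (f.fiberToSpecResidueField y) ((Scheme.Modules.pullback (f.fiberι y)).obj L))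
    (hH1 : Subsingleton (CohIII.fiberH f L y 1)) :
    ∃ W : Y.Opens, y ∈ W ∧ ∀ z : X, f z ∈ W → VeryAmpleX.ImmAt f L z := by
  classical
  let F := f.fiber y
  let fF := f.fiberToSpecResidueField y
  let LF := (Scheme.Modules.pullback (f.fiberι y)).obj L
  have hLF : PicF.IsInvertible LF := PicClLib.isInvertible_pullback _ hL
  obtain ⟨U₀, hyU₀, -, hbc⟩ := PBC.exists_nhd_bc0 f (QCoh.isFP_of_isFinLocFree (ParaFX.FlatDesc.isFinLocFree_of_invertible hL))
    (Seesaw.isFlatOver_of_isInvertible f hL) y (Or.inr hH1)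
  haveI : IsIso (CohBC.bc0 f (Y.fromSpecResidueField y) fF (f.fiberι y) (f.fiber_fac y) L) :=
    hbc _ _ _ _ _ (IsPullback.of_hasPullback f (Y.fromSpecResidueField y)) fun p =>
      (Scheme.fromSpecResidueField_apply y p).symm ▸ hyU₀
  -- the projective coordinates on the fibre
  obtain ⟨N, i, hi, hic, ⟨eL⟩⟩ := hva
  haveI := hi
  let O1 : ∀ d : ℕ, (CohB1.ProjSpace d (ULift.{u} ℤ)).Modules := fun d => Twist.twistProjSpace d (ULift.{u} ℤ) 1
  let πN := pullback.fst (CohB1.ProjSpace.toSpec N (ULift.{u} ℤ)) (specULiftZIsTerminal.from (Spec (Y.residueField y)))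
  let σ : F ⟶ CohB1.ProjSpace N (ULift.{u} ℤ) := i ≫ πN
  let τ' : (Scheme.Modules.pullback σ).obj (O1 N) ≅ LF :=
    ((Scheme.Modules.pullbackComp i πN).app (O1 N)).symm ≪≫ eL.symm
  let s : Fin (N + 1) → Γ(LF, ⊤) := fun j =>
    τ'.hom.app ⊤ (ProjUP.pullSec σ (O1 N) (ProjUP.coord N (ULift.{u} ℤ) j))
  obtain ⟨_, ⟨V, hV, rfl⟩, hyV, -⟩ := Y.isBasis_affineOpens.exists_subset_of_mem_open (Set.mem_univ y) isOpen_univ
  have hfib : ∀ a : F, f (f.fiberι y a) = y := fun a => by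
    have : f.fiberι y a ∈ Set.range (f.fiberι y) := ⟨a, rfl⟩
    rw [Scheme.Hom.range_fiberι] at this
    exact this
  have hle : (⊤ : F.Opens) ≤ f.fiberι y ⁻¹ᵁ (f ⁻¹ᵁ V) := fun a _ => by
    show f (f.fiberι y a) ∈ V
    rw [hfib a]
    exact hyV
  choose m c x hcx using fun j => exists_comb_fibre f (ProjUPX.isQCoh_of_isInvertible hL) y hV hyV hle (s j)
  let e := Fintype.equivFin (Σ j, Fin (m j))
  let n := Fintype.card (Σ j, Fin (m j))
  let xσ : (Σ j, Fin (m j)) → Γ(L, f ⁻¹ᵁ V) := fun q => x q.1 q.2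
  let cσ : Fin (N + 1) → (Σ j, Fin (m j)) → Γ(Spec (Y.residueField y), ⊤) := fun j q =>
    if h : q.1 = j then c j (h ▸ q.2) else 0
  let xs : Fin (n + 1) → Γ(L, f ⁻¹ᵁ V) := Fin.snoc (fun k => xσ (e.symm k)) 0
  let ts : Fin (n + 1) → Γ(LF, ⊤) := fun k => QCoh.pullSec (f.fiberι y) L hle (xs k)
  let cc : Fin (N + 1) → Fin (n + 1) → Γ(Spec (Y.residueField y), ⊤) := fun j =>
    Fin.snoc (fun k => cσ j (e.symm k)) 0
  have hspan : ∀ j, s j = ∑ k, fF.appTop (cc j k) • ts k := fun j => by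
    rw [hcx j, Fin.sum_univ_castSucc]
    simp only [cc, ts, xs, Fin.snoc_castSucc, Fin.snoc_last, map_zero, zero_smul, add_zero]
    rw [← Equiv.sum_comp e]
    simp only [Equiv.symm_apply_apply]
    rw [Fintype.sum_sigma, Finset.sum_eq_single j]
    · simp [fF, cσ, xσ]
    · intro j' _ hne
      exact Finset.sum_eq_zero fun k _ => by
        rw [show cσ j ⟨j', k⟩ = 0 from dif_neg hne, map_zero, zero_smul]
    · exact fun h => absurd (Finset.mem_univ j) h
  -- the sections generate near the fibre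
  have hcov : ∀ a : F, ∃ k, f.fiberι y a ∈ AmpleX.locus (xs k) := fun a => by
    obtain ⟨j, hj⟩ := Opens.mem_iSup.1
      ((AmpleEmbed.iSup_basicOpen_X N (ULift.{u} ℤ)).ge (show σ a ∈ ⊤ from trivial))
    have hj' : a ∈ TrivBasic.locus (s j) := (AmpleEmbed.preimage_chart σ τ' j rfl).le hj
    obtain ⟨U, haU, ε, hε⟩ := InvX.exists_frame hLF a
    choose δ hδ using fun k => hε.exists_coord le_rfl (AModX.res LF (le_top : U ≤ ⊤) (ts k))
    simp only [AModX.res_self] at hδ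
    have hsj : AModX.res LF (le_top : U ≤ ⊤) (s j) =
        (∑ k, AModX.resR (le_top : U ≤ ⊤) (fF.appTop (cc j k)) * δ k) • ε := by
      rw [hspan j, map_sum, Finset.sum_smul]
      refine Finset.sum_congr rfl fun k _ => ?_
      rw [AModX.res_smul, hδ k, mul_smul]
    have ha : a ∈ F.basicOpen (∑ k, AModX.resR (le_top : U ≤ ⊤) (fF.appTop (cc j k)) * δ k) :=
      (TrivBasic.locus_eq_basicOpen hε hsj).le ⟨hj', haU⟩
    rw [F.mem_basicOpen _ a haU, map_sum] at ha
    obtain ⟨k, hk⟩ : ∃ k, IsUnit (F.presheaf.germ U a haU (δ k)) := by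
      by_contra hno
      push_neg at hno
      refine (IsLocalRing.notMem_maximalIdeal.2 ha) (Ideal.sum_mem _ fun k _ => ?_)
      rw [map_mul]
      exact Ideal.mul_mem_left _ _ ((IsLocalRing.mem_maximalIdeal _).2 (hno k))
    refine ⟨k, ?_⟩
    have h2 : a ∈ AmpleX.locus (ts k) ⊓ U :=
      (AmpleX.locus_inf (ts k) (le_top : U ≤ ⊤) hε (hδ k)).ge ((F.mem_basicOpen _ a haU).2 hk)
    have h3 := (locus_pullSec (f.fiberι y) hL hle (xs k)).le h2.1
    exact h3
  let O : X.Opens := ⨆ k, AmpleX.locus (xs k)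
  have hC : IsClosed (f '' (O : Set X)ᶜ) := f.isClosedMap _ O.2.isClosed_compl
  have hyC : y ∉ f '' (O : Set X)ᶜ := by
    rintro ⟨z, hz, hzy⟩
    obtain ⟨a, rfl⟩ : z ∈ Set.range (f.fiberι y) := by rw [Scheme.Hom.range_fiberι]; exact hzy
    exact hz (Opens.mem_iSup.2 (hcov a))
  obtain ⟨U, hU, hyU, hUle⟩ := exists_isAffineOpen_mem_and_subset (x := y) (U := V ⊓ ⟨_, hC.isOpen_compl⟩)
    ⟨hyV, hyC⟩
  let XU : Scheme.{u} := (f ⁻¹ᵁ U).toScheme
  let ι : XU ⟶ X := (f ⁻¹ᵁ U).ι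
  let LU := (Scheme.Modules.pullback ι).obj L
  have hleU : (⊤ : XU.Opens) ≤ ι ⁻¹ᵁ (f ⁻¹ᵁ V) := fun z _ => (hUle z.2).1
  let t : Fin (n + 1) → Γ(LU, ⊤) := fun k => QCoh.pullSec ι L hleU (xs k)
  have hgen : ∀ z : XU, ∃ k, z ∈ TrivBasic.locus (t k) := fun z => by
    have hz : ι z ∈ O := by
      by_contra h
      exact (hUle z.2).2 ⟨_, h, rfl⟩
    obtain ⟨k, hk⟩ := Opens.mem_iSup.1 hz
    exact ⟨k, mem_trivBasic_locus ((locus_pullSec ι hL hleU (xs k)).ge hk)⟩
  obtain ⟨r, -, τ, hτ⟩ := S3572.result n (specULiftZIsTerminal.from XU) LU (PicClLib.isInvertible_pullback ι hL) t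
    (VeryAmple.generatedBy_of_locus t hgen)
  let g : XU ⟶ (U : Scheme.{u}) := f ∣_ U
  let π := pullback.fst (CohB1.ProjSpace.toSpec n (ULift.{u} ℤ)) (specULiftZIsTerminal.from (U : Scheme.{u}))
  let h : CohB1.ProjSpaceOver n (U : Scheme.{u}) ⟶ (U : Scheme.{u}) := CohB1.ProjSpaceOver.toBase n _
  let r' : XU ⟶ CohB1.ProjSpaceOver n (U : Scheme.{u}) := pullback.lift r g (specULiftZIsTerminal.hom_ext _ _)
  have hr'π : r' ≫ π = r := pullback.lift_fst _ _ _
  have hr'h : r' ≫ h = g := pullback.lift_snd _ _ _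
  haveI : IsProper g := MorphismProperty.of_isPullback (P := @IsProper) (isPullback_morphismRestrict f U).flip ‹_›
  haveI : IsProper h := by
    haveI : IsProper (CohB1.ProjSpace.toSpec n (ULift.{u} ℤ)) := PnCoh.Chow.isProper_toSpec n _
    exact MorphismProperty.pullback_snd (P := @IsProper) _ _ inferInstance
  let y' : (U : Scheme.{u}) := ⟨y, hyU⟩
  let μ := CohIII.fiberMapOver r' g h hr'h y'
  -- the map on the fibre is a monomorphism
  haveI : Mono μ := by
    constructor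
    intro T p q hpq
    have hμr : μ ≫ pullback.fst h _ ≫ π = g.fiberι y' ≫ r := by
      rw [← hr'π]
      exact pullback.lift_fst_assoc _ _ _ _
    have hμs : μ ≫ pullback.snd h _ = g.fiberToSpecResidueField y' := (pullback.lift_snd _ _ _).trans (Category.comp_id _)
    have hsnd : p ≫ g.fiberToSpecResidueField y' = q ≫ g.fiberToSpecResidueField y' := by
      rw [← hμs, reassoc_of% hpq]
    have hr : p ≫ g.fiberι y' ≫ r = q ≫ g.fiberι y' ≫ r := by
      rw [← hμr, reassoc_of% hpq]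
    let φ : g.fiber y' ⟶ F := pullback.lift (g.fiberι y' ≫ ι)
      (g.fiberToSpecResidueField y' ≫ Spec.map (U.ι.residueFieldMap y')) (by
        rw [Category.assoc, Category.assoc]
        show _ = g.fiberToSpecResidueField y' ≫ Spec.map (U.ι.residueFieldMap y') ≫ Y.fromSpecResidueField (U.ι y')
        rw [Scheme.Hom.SpecMap_residueFieldMap_fromSpecResidueField,
          ← morphismRestrict_ι]
        exact congrArg (· ≫ U.ι) (g.fiber_fac y'))
    let j : F ⟶ XU := IsOpenImmersion.lift ι (f.fiberι y) (by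
      rw [Scheme.Opens.range_ι]
      rintro _ ⟨a, rfl⟩
      show f (f.fiberι y a) ∈ U
      rw [hfib a]
      exact hyU)
    have hj : j ≫ ι = f.fiberι y := IsOpenImmersion.lift_fac _ _ _
    have hφ : φ ≫ f.fiberι y = g.fiberι y' ≫ ι := pullback.lift_fst _ _ _
    have hφj : φ ≫ j = g.fiberι y' := by
      rw [← cancel_mono ι, Category.assoc, hj, hφ]
    have hφs : φ ≫ fF = g.fiberToSpecResidueField y' ≫ Spec.map (U.ι.residueFieldMap y') := pullback.lift_snd _ _ _
    let ρ : F ⟶ CohB1.ProjSpace n (ULift.{u} ℤ) := j ≫ r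
    let τρ : (Scheme.Modules.pullback ρ).obj (O1 n) ≅ LF :=
      ((Scheme.Modules.pullbackComp j r).app (O1 n)).symm ≪≫ (Scheme.Modules.pullback j).mapIso τ ≪≫
        (Scheme.Modules.pullbackComp j ι).app L ≪≫ (Scheme.Modules.pullbackCongr hj).app L
    have htρ : ∀ k, τρ.hom.app ⊤ (ProjUP.pullSec ρ (O1 n) (ProjUP.coord n (ULift.{u} ℤ) k)) = ts k := fun k => by
      have h1 := ExistEasy.pullSec_comp j r (O1 n) (U := (⊤ : XU.Opens)) (W := (⊤ : F.Opens)) (V := ⊤) le_top le_top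
        (ProjUP.coord n (ULift.{u} ℤ) k)
      have h2 : ((Scheme.Modules.pullbackComp j r).inv.app (O1 n)).app ⊤
          (ProjUP.pullSec ρ (O1 n) (ProjUP.coord n (ULift.{u} ℤ) k)) =
          QCoh.pullSec (V := (⊤ : XU.Opens)) (W := (⊤ : F.Opens)) j _ le_top
            (QCoh.pullSec r (O1 n) (V := ⊤) (W := (⊤ : XU.Opens)) le_top (ProjUP.coord n (ULift.{u} ℤ) k)) := by
        rw [pullSec_eq_projUP]
        exact (congrArg (((Scheme.Modules.pullbackComp j r).inv.app (O1 n)).app ⊤) h1.symm).trans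
          (congr(($((Scheme.Modules.pullbackComp j r).hom_inv_id_app (O1 n))).app ⊤ (QCoh.pullSec (V := (⊤ : XU.Opens))
            (W := (⊤ : F.Opens)) j ((Scheme.Modules.pullback r).obj (O1 n)) le_top _)))
      have h3 := ExistEasy.pullSec_natural j τ.hom (V := (⊤ : XU.Opens)) (W := (⊤ : F.Opens)) le_top
        (QCoh.pullSec r (O1 n) (V := ⊤) (W := (⊤ : XU.Opens)) le_top (ProjUP.coord n (ULift.{u} ℤ) k))
      have h4 : τ.hom.app ⊤ (QCoh.pullSec r (O1 n) (V := ⊤) (W := (⊤ : XU.Opens)) le_top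
          (ProjUP.coord n (ULift.{u} ℤ) k)) = QCoh.pullSec ι L hleU (xs k) := by
        refine Eq.trans ?_ (hτ k)
        exact congrArg (τ.hom.app ⊤) (pullSec_eq_projUP r (O1 n) _).symm
      have h5 := ExistEasy.pullSec_comp j ι L (U := (⊤ : XU.Opens)) (W := (⊤ : F.Opens)) (V := f ⁻¹ᵁ V) hleU le_top
        (xs k)
      show ((Scheme.Modules.pullbackCongr hj).hom.app L).app ⊤ (((Scheme.Modules.pullbackComp j ι).hom.app L).app ⊤
        (((Scheme.Modules.pullback j).map τ.hom).app ⊤ (((Scheme.Modules.pullbackComp j r).inv.app (O1 n)).app ⊤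
          (ProjUP.pullSec ρ (O1 n) (ProjUP.coord n (ULift.{u} ℤ) k))))) = _
      rw [h2, h3, h4, h5]
      exact ExistEasy.pullSec_congr hj L _ (xs k)
    have hp : (p ≫ φ) ≫ fF = (q ≫ φ) ≫ fF := by
      rw [Category.assoc, Category.assoc, hφs, reassoc_of% hsnd]
    have key : (p ≫ φ) ≫ σ = (q ≫ φ) ≫ σ := by
      refine comp_eq_of_span hLF ρ τρ ts htρ σ τ' s (fun j => rfl) _ _ (fun j k => fF.appTop (cc j k))
        (fun j k => ?_) hspan ?_
      · have := congr(($hp).appTop (cc j k))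
        simpa only [Scheme.Hom.comp_appTop, CommRingCat.comp_apply] using this
      · simp only [ρ, Category.assoc, reassoc_of% hφj]
        exact hr
    have hpi : (p ≫ φ) ≫ i = (q ≫ φ) ≫ i := by
      refine pullback.hom_ext ?_ ?_
      · simpa only [σ, Category.assoc] using key
      · simpa only [Category.assoc, hic] using hp
    have hpq' : p ≫ φ = q ≫ φ := (cancel_mono i).1 hpi
    have : p ≫ g.fiberι y' ≫ ι = q ≫ g.fiberι y' ≫ ι := by
      rw [← hφ, reassoc_of% hpq']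
    rw [← cancel_mono (g.fiberι y' ≫ ι)]
    exact this
  haveI : IsClosedImmersion μ := by
    haveI : IsProper (μ ≫ pullback.snd h _) := by
      rw [show μ ≫ pullback.snd h _ = g.fiberToSpecResidueField y' from (pullback.lift_snd _ _ _).trans (Category.comp_id _)]
      exact MorphismProperty.pullback_snd (P := @IsProper) _ _ inferInstance
    haveI : IsSeparated (pullback.snd h ((U : Scheme.{u}).fromSpecResidueField y')) :=
      MorphismProperty.pullback_snd (P := @IsSeparated) _ _ inferInstance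
    haveI : IsProper μ := IsProper.of_comp μ (pullback.snd h _)
    exact (IsClosedImmersion.iff_isProper_and_mono μ).2 ⟨inferInstance, inferInstance⟩
  obtain ⟨W, hyW, hW⟩ := (S10861.result r' g h hr'h y').2 inferInstance
  haveI := hW
  refine ⟨U.ι ''ᵁ W, ⟨y', hyW, rfl⟩, fun z hz => ?_⟩
  obtain ⟨w, hw, hwz⟩ := hz
  have hzU : f z ∈ U := hwz ▸ w.2
  refine VeryAmpleX.ImmAt.of_restrict U ⟨z, hzU⟩ ?_
  have h1 := immAt_of_comp r' h (O1 := Twist.twistOver n (U : Scheme.{u}) 1)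
    (PicClLib.isInvertible_pullback _ (VeryAmpleX.isInvertible_twistProjSpace n))
    (VeryAmpleX.immAt_twistOver n _) W (⟨z, hzU⟩ : XU) (by
      rw [show h (r' (⟨z, hzU⟩ : XU)) = g ⟨z, hzU⟩ from congr(($hr'h) (⟨z, hzU⟩ : XU))]
      rw [show g (⟨z, hzU⟩ : XU) = w from Subtype.ext
        ((congr(($(morphismRestrict_ι f U)) (⟨z, hzU⟩ : XU))).trans hwz.symm)]
      exact hw)
  rw [hr'h] at h1
  exact h1.of_iso ((Scheme.Modules.pullbackComp r' π).app _ ≪≫ (Scheme.Modules.pullbackCongr hr'π).app _ ≪≫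
    τ ≪≫ ((Scheme.Modules.restrictFunctorIsoPullback ι).app L).symm)

end Groth.Agent.VAFibre
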