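import Groth.Agent.Lib.AmpleEmbed

/-!
# A morphism to projective space given by spanning sections separates what any coordinates in their span separate
-/

noncomputable section

set_option linter.style.haveILetI false
set_option linter.unusedSectionVars false
set_option backward.isDefEq.respectTransparency false
set_option backward.isDefEq.respectTransparency.types false

universe u

open CategoryTheory CategoryTheory.Limits AlgebraicGeometry TopologicalSpace Opposite HomogeneousLocalization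

namespace Groth.Agent.VAFibre

open Groth.Agent Groth.Agent.InvX Groth.Agent.H23

variable {F T : Scheme.{u}} {L : F.Modules}

theorem appLE_eq_of_appTop {p q : T ⟶ F} {U : F.Opens} {W : T.Opens} (hp : W ≤ p ⁻¹ᵁ U) (hq : W ≤ q ⁻¹ᵁ U)
    {c : Γ(F, ⊤)} (hc : p.appTop c = q.appTop c) :
    p.appLE U W hp (AModX.resR (le_top : U ≤ ⊤) c) = q.appLE U W hq (AModX.resR (le_top : U ≤ ⊤) c) := by
  have key : ∀ (s : T ⟶ F) (hs : W ≤ s ⁻¹ᵁ U),
      s.appLE U W hs (AModX.resR (le_top : U ≤ ⊤) c) = AModX.resR (le_top : W ≤ ⊤) (s.appTop c) := fun s hs => by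
    show (F.presheaf.map _ ≫ s.appLE U W hs) c = (s.appTop ≫ T.presheaf.map _) c
    rw [Scheme.Hom.map_appLE, Scheme.Hom.appLE]
  rw [key p hp, key q hq, hc]

theorem appLE_appLE_eq {P : Scheme.{u}} (ρ : F ⟶ P) {p q : T ⟶ F} (h : p ≫ ρ = q ≫ ρ) {D : P.Opens} {U : F.Opens}
    {W : T.Opens} (hU : U ≤ ρ ⁻¹ᵁ D) (hp : W ≤ p ⁻¹ᵁ U) (hq : W ≤ q ⁻¹ᵁ U) (v : Γ(P, D)) :
    p.appLE U W hp (ρ.appLE D U hU v) = q.appLE U W hq (ρ.appLE D U hU v) := by
  rw [← CommRingCat.comp_apply, ← CommRingCat.comp_apply, Scheme.Hom.appLE_comp_appLE,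
    Scheme.Hom.appLE_comp_appLE]
  simp only [h]

theorem uliftInt_hom_ext {R : Type*} [Semiring R] (f g : ULift.{u} ℤ →+* R) : f = g :=
  RingHom.ext fun x => RingHom.congr_fun (RingHom.ext_int (f.comp (ULift.ringEquiv.{0, u} (R := ℤ)).symm.toRingHom)
    (g.comp (ULift.ringEquiv.{0, u} (R := ℤ)).symm.toRingHom)) x.down

/-- Points with the same image under spanning sections have the same image under sections in their span. -/
theorem comp_eq_of_span (hL : PicF.IsInvertible L) {n N : ℕ}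
    (ρ : F ⟶ CohB1.ProjSpace n (ULift.{u} ℤ))
    (τ : (Scheme.Modules.pullback ρ).obj (Twist.twistProjSpace n (ULift.{u} ℤ) 1) ≅ L) (t : Fin (n + 1) → Γ(L, ⊤))
    (ht : ∀ l, τ.hom.app ⊤ (ProjUP.pullSec ρ (Twist.twistProjSpace n (ULift.{u} ℤ) 1)
      (ProjUP.coord n (ULift.{u} ℤ) l)) = t l)
    (σ : F ⟶ CohB1.ProjSpace N (ULift.{u} ℤ))
    (τ' : (Scheme.Modules.pullback σ).obj (Twist.twistProjSpace N (ULift.{u} ℤ) 1) ≅ L) (s : Fin (N + 1) → Γ(L, ⊤))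
    (hs : ∀ j, τ'.hom.app ⊤ (ProjUP.pullSec σ (Twist.twistProjSpace N (ULift.{u} ℤ) 1)
      (ProjUP.coord N (ULift.{u} ℤ) j)) = s j)
    (p q : T ⟶ F) (c : Fin (N + 1) → Fin (n + 1) → Γ(F, ⊤)) (hc : ∀ j l, p.appTop (c j l) = q.appTop (c j l))
    (hspan : ∀ j, s j = ∑ l, c j l • t l) (h : p ≫ ρ = q ≫ ρ) : p ≫ σ = q ≫ σ := by
  let D : ∀ m, Fin (m + 1) → (CohB1.ProjSpace m (ULift.{u} ℤ)).Opens := fun m i =>
    Proj.basicOpen (CohB1.polyGrading m (ULift.{u} ℤ)) (MvPolynomial.X i)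
  have hU : ∀ l, ρ ⁻¹ᵁ D n l = TrivBasic.locus (t l) := fun l => AmpleEmbed.preimage_chart ρ τ l (ht l)
  have hV : ∀ j, σ ⁻¹ᵁ D N j = TrivBasic.locus (s j) := fun j => AmpleEmbed.preimage_chart σ τ' j (hs j)
  -- the coordinates of the second family on the charts of the first
  have hfr : ∀ l, IsFrame (AModX.res L (le_top : ρ ⁻¹ᵁ D n l ≤ ⊤) (t l)) := fun l =>
    TrivBasic.isFrame_res_of_le_locus (hU l).le
  have hγ : ∀ l j, ∃ γ : Γ(F, ρ ⁻¹ᵁ D n l),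
      AModX.res L (le_top : ρ ⁻¹ᵁ D n l ≤ ⊤) (s j) = γ • AModX.res L (le_top : ρ ⁻¹ᵁ D n l ≤ ⊤) (t l) ∧
      ∀ (W : T.Opens) (hp : W ≤ p ⁻¹ᵁ (ρ ⁻¹ᵁ D n l)) (hq : W ≤ q ⁻¹ᵁ (ρ ⁻¹ᵁ D n l)),
        p.appLE _ W hp γ = q.appLE _ W hq γ := by
    intro l j
    choose β hβ using fun m => (hfr l).exists_coord le_rfl (AModX.res L (le_top : ρ ⁻¹ᵁ D n l ≤ ⊤) (t m))
    simp only [AModX.res_self] at hβ
    refine ⟨∑ m, AModX.resR (le_top : ρ ⁻¹ᵁ D n l ≤ ⊤) (c j m) * β m, ?_, fun W hp hq => ?_⟩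
    · rw [hspan j, map_sum, Finset.sum_smul]
      refine Finset.sum_congr rfl fun m _ => ?_
      rw [AModX.res_smul, hβ m, mul_smul]
    · rw [map_sum, map_sum]
      refine Finset.sum_congr rfl fun m _ => ?_
      rw [map_mul, map_mul]
      congr 1
      · exact appLE_eq_of_appTop hp hq (hc j m)
      · rw [← AmpleEmbed.ratioOf_eq ρ τ l m (ht l) (ht m) le_rfl (β m) (hβ m), ProjUPX.ratioOf]
        exact appLE_appLE_eq ρ h le_rfl hp hq _
  choose γ hγs hγc using hγ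
  have hpre : ∀ l, p ⁻¹ᵁ (ρ ⁻¹ᵁ D n l) = q ⁻¹ᵁ (ρ ⁻¹ᵁ D n l) := fun l => by
    rw [← Scheme.Hom.comp_preimage, ← Scheme.Hom.comp_preimage, h]
  have hbasic : ∀ l j, σ ⁻¹ᵁ D N j ⊓ ρ ⁻¹ᵁ D n l = F.basicOpen (γ l j) := fun l j => by
    rw [hV j]
    exact TrivBasic.locus_eq_basicOpen (hfr l) (hγs l j)
  -- the open pieces of the test scheme
  let W : Fin (N + 1) × Fin (n + 1) → T.Opens := fun jl => p ⁻¹ᵁ (F.basicOpen (γ jl.2 jl.1))
  have hWq : ∀ jl, W jl ≤ q ⁻¹ᵁ (F.basicOpen (γ jl.2 jl.1)) := by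
    rintro ⟨j, l⟩
    have hq : p ⁻¹ᵁ (ρ ⁻¹ᵁ D n l) ≤ q ⁻¹ᵁ (ρ ⁻¹ᵁ D n l) := (hpre l).le
    have e := congrArg T.basicOpen (hγc l j (p ⁻¹ᵁ (ρ ⁻¹ᵁ D n l)) le_rfl hq)
    rw [Scheme.basicOpen_appLE, Scheme.basicOpen_appLE] at e
    intro z hz
    have hz' : z ∈ p ⁻¹ᵁ (ρ ⁻¹ᵁ D n l) ⊓ p ⁻¹ᵁ F.basicOpen (γ l j) :=
      ⟨p.preimage_mono (F.basicOpen_le _) hz, hz⟩
    rw [e] at hz'
    exact hz'.2
  have hcov : iSup W = ⊤ := top_le_iff.1 fun z _ => by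
    obtain ⟨l, hl⟩ := Opens.mem_iSup.1
      ((AmpleEmbed.iSup_basicOpen_X n (ULift.{u} ℤ)).ge (show ρ (p z) ∈ ⊤ from trivial))
    obtain ⟨j, hj⟩ := Opens.mem_iSup.1
      ((AmpleEmbed.iSup_basicOpen_X N (ULift.{u} ℤ)).ge (show σ (p z) ∈ ⊤ from trivial))
    exact Opens.mem_iSup.2 ⟨(j, l), (hbasic l j).le ⟨hj, hl⟩⟩
  refine Scheme.Cover.hom_ext (T.openCoverOfIsOpenCover W (IsOpenCover.mk hcov)) _ _ ?_
  rintro ⟨j, l⟩
  show (W (j, l)).ι ≫ p ≫ σ = (W (j, l)).ι ≫ q ≫ σ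
  let B := F.basicOpen (γ l j)
  have hBj : B ≤ σ ⁻¹ᵁ D N j := (hbasic l j).ge.trans inf_le_left
  have hBl : B ≤ ρ ⁻¹ᵁ D n l := F.basicOpen_le _
  refine ProjUPX.ι_eq_of_appLE (ProjPt.X_mem (R := ULift.{u} ℤ) j) (p ≫ σ) (q ≫ σ) (U := W (j, l))
    (show W (j, l) ≤ (p ≫ σ) ⁻¹ᵁ D N j from p.preimage_mono hBj)
    (show W (j, l) ≤ (q ≫ σ) ⁻¹ᵁ D N j from (hWq (j, l)).trans (q.preimage_mono hBj)) ?_
  have hg : ∀ m, p.appLE B (W (j, l)) le_rfl (ProjUPX.ratioOf σ (ProjPt.X_mem m) (ProjPt.X_mem j) hBj) =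
      q.appLE B (W (j, l)) (hWq (j, l)) (ProjUPX.ratioOf σ (ProjPt.X_mem m) (ProjPt.X_mem j) hBj) := by
    intro m
    let b := ProjUPX.ratioOf σ (ProjPt.X_mem m) (ProjPt.X_mem j) hBj
    have hb : AModX.res L (le_top : B ≤ ⊤) (s m) = b • AModX.res L (le_top : B ≤ ⊤) (s j) := by
      obtain ⟨b', hb'⟩ := (TrivBasic.isFrame_res_of_le_locus (hBj.trans (hV j).le)).exists_coord le_rfl
        (AModX.res L (le_top : B ≤ ⊤) (s m))
      rw [AModX.res_self] at hb'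
      rw [show b = b' from AmpleEmbed.ratioOf_eq σ τ' j m (hs j) (hs m) hBj b' hb']
      exact hb'
    have hγres : ∀ i, AModX.res L (le_top : B ≤ ⊤) (s i) =
        AModX.resR hBl (γ l i) • AModX.res L (le_top : B ≤ ⊤) (t l) := fun i => by
      have := congrArg (AModX.res L hBl) (hγs l i)
      rwa [AModX.res_smul, AModX.res_res, AModX.res_res] at this
    have hfB : IsFrame (AModX.res L (le_top : B ≤ ⊤) (t l)) :=
      TrivBasic.isFrame_res_of_le_locus (hBl.trans (hU l).le)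
    have hmul : AModX.resR hBl (γ l m) = b * AModX.resR hBl (γ l j) := by
      refine hfB.coord_unique le_rfl ?_
      rw [AModX.res_self, ← hγres, hb, hγres, mul_smul]
    have hu : IsUnit (AModX.resR hBl (γ l j)) := AModX.isUnit_resR hBl (γ l j) le_rfl
    have hpq : ∀ i, p.appLE B (W (j, l)) le_rfl (AModX.resR hBl (γ l i)) =
        q.appLE B (W (j, l)) (hWq (j, l)) (AModX.resR hBl (γ l i)) := fun i => by
      show (F.presheaf.map _ ≫ p.appLE B (W (j, l)) le_rfl) (γ l i) =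
        (F.presheaf.map _ ≫ q.appLE B (W (j, l)) (hWq (j, l))) (γ l i)
      rw [Scheme.Hom.map_appLE, Scheme.Hom.map_appLE]
      exact hγc l i _ _ _
    refine (hu.map (p.appLE B (W (j, l)) le_rfl).hom).mul_right_cancel ?_
    refine ((map_mul _ _ _).symm.trans ?_)
    rw [← hmul]
    conv_rhs => rw [hpq j]
    rw [hpq m, hmul, map_mul]
  ext a
  obtain ⟨d, b, hb, rfl⟩ := Away.mk_surjective (CohB1.polyGrading N (ULift.{u} ℤ)) (ProjPt.X_mem j) a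
  have hgen : Algebra.adjoin (ULift.{u} ℤ) (Set.range (MvPolynomial.X : Fin (N + 1) → MvPolynomial (Fin (N + 1)) (ULift.{u} ℤ))) = ⊤ :=
    MvPolynomial.adjoin_range_X
  obtain ⟨P, hP, rfl⟩ := ProjUPX.exists_homogeneous_preimage (CohB1.polyGrading N (ULift.{u} ℤ))
    (T := (MvPolynomial.X : Fin (N + 1) → _)) ProjPt.X_mem hgen (d := d) (by simpa using hb)
  rw [ProjUPX.away_mk_eq_eval ProjPt.X_mem (ProjPt.X_mem j) d P hP, MvPolynomial.map_eval₂Hom,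
    MvPolynomial.map_eval₂Hom]
  refine MvPolynomial.eval₂Hom_congr (uliftInt_hom_ext _ _) (funext fun m => ?_) rfl
  have key : ∀ (r : T ⟶ F) (hr : W (j, l) ≤ r ⁻¹ᵁ B),
      (r ≫ σ).appLE (D N j) (W (j, l)) (show W (j, l) ≤ r ⁻¹ᵁ (σ ⁻¹ᵁ D N j) from hr.trans (r.preimage_mono hBj))
          ((Proj.awayToSection _ (MvPolynomial.X j)).hom
            (Away.mk (CohB1.polyGrading N (ULift.{u} ℤ)) (ProjPt.X_mem j) 1 (MvPolynomial.X m)
              (by rw [one_smul]; exact ProjPt.X_mem m))) =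
        r.appLE B (W (j, l)) hr (ProjUPX.ratioOf σ (ProjPt.X_mem m) (ProjPt.X_mem j) hBj) := fun r hr => by
    exact (congr($(Scheme.Hom.appLE_comp_appLE r σ (D N j) B (W (j, l)) hBj hr) _)).symm
  exact (key p le_rfl).trans ((hg m).trans (key q (hWq (j, l))).symm)

end Groth.Agent.VAFibre
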