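import Groth.Agent.VAFibre.Separate
import Groth.Agent.ExistEasy.PP.PullSec
import Groth.Agent.PBC.Deg0Glob
import Groth.Agent.PBC.Bc0Comp
import Groth.Agent.H23.Seesaw
import Groth.Agent.QCoh.LocFree
import Groth.Agent.ParaFX.FlatDesc
import Groth.Agent.QCoh.Qcqs
import Groth.Agent.AmpleX.Sect

/-!
# Sections of an invertible module near a fibre with vanishing first cohomology
-/

noncomputable section

set_option linter.style.haveILetI false
set_option linter.unusedSectionVars false
set_option backward.isDefEq.respectTransparency false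
set_option backward.isDefEq.respectTransparency.types false
set_option maxHeartbeats 1000000
set_option synthInstance.maxHeartbeats 400000

universe u

open CategoryTheory CategoryTheory.Limits AlgebraicGeometry TopologicalSpace Opposite

namespace Groth.Agent.VAFibre

open Groth.Agent Groth.Agent.InvX Groth.Agent.H23

variable {X Y : Scheme.{u}}

/-- Degree zero base change makes the sections near the fibre span the sections on the fibre. -/
theorem exists_comb_fibre (f : X ⟶ Y) [QuasiCompact f] [QuasiSeparated f] {L : X.Modules} (hL : Coh.IsQCoh L)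
    (y : Y) [IsIso (CohBC.bc0 f (Y.fromSpecResidueField y) (f.fiberToSpecResidueField y) (f.fiberι y)
      (f.fiber_fac y) L)]
    {V : Y.Opens} (hV : IsAffineOpen V) (hy : y ∈ V) (hle : (⊤ : (f.fiber y).Opens) ≤ f.fiberι y ⁻¹ᵁ (f ⁻¹ᵁ V))
    (z : Γ((Scheme.Modules.pullback (f.fiberι y)).obj L, ⊤)) :
    ∃ (m : ℕ) (c : Fin m → Γ(Spec (Y.residueField y), ⊤)) (x : Fin m → Γ(L, f ⁻¹ᵁ V)),
      z = ∑ i, (f.fiberToSpecResidueField y).appTop (c i) • QCoh.pullSec (f.fiberι y) L hle (x i) := by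
  classical
  let φ := Y.fromSpecResidueField y
  let f' := f.fiberToSpecResidueField y
  let M := (Scheme.Modules.pushforward f).obj L
  let bc := CohBC.bc0 f φ f' (f.fiberι y) (f.fiber_fac y) L
  have hyV : (⊤ : (Spec (Y.residueField y)).Opens) ≤ φ ⁻¹ᵁ V := by
    intro p _
    show φ p ∈ V
    rw [show φ p = y from Scheme.fromSpecResidueField_apply y p]
    exact hy
  let w : Γ((Scheme.Modules.pullback φ).obj M, ⊤) := (inv bc).app ⊤ z
  have hw : bc.app ⊤ w = z := congr(($(IsIso.inv_hom_id bc)).app ⊤ z)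
  letI : Algebra Γ(Y, V) Γ(Spec (Y.residueField y), ⊤) := (φ.appLE V ⊤ hyV).hom.toAlgebra
  letI : Module Γ(Y, V) Γ((Scheme.Modules.pullback φ).obj M, ⊤) := Module.compHom _ (φ.appLE V ⊤ hyV).hom
  haveI : IsScalarTower Γ(Y, V) Γ(Spec (Y.residueField y), ⊤) Γ((Scheme.Modules.pullback φ).obj M, ⊤) :=
    ⟨fun a b c => mul_smul ((φ.appLE V ⊤ hyV).hom a) b c⟩
  obtain ⟨l, hl, hb⟩ := ExistEasy.exists_pullSec_baseChange φ (QCoh.isQCoh_pushforward f hL) (isAffineOpen_top _) hV hyV
  rw [← hw]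
  clear hw
  clear_value w
  revert w
  intro w
  refine hb.inductionOn w (fun w => ∃ (m : ℕ) (c : Fin m → Γ(Spec (Y.residueField y), ⊤)) (x : Fin m → Γ(L, f ⁻¹ᵁ V)),
      bc.app ⊤ w = ∑ i, f'.appTop (c i) • QCoh.pullSec (f.fiberι y) L hle (x i))
    ⟨0, Fin.elim0, Fin.elim0, by rw [Fin.sum_univ_zero]; exact map_zero _⟩ (fun x => ⟨1, fun _ => 1, fun _ => x, ?_⟩) (fun r w hw => ?_)
    (fun a b ha hb => ?_)
  · rw [hl, Fin.sum_univ_one, map_one, one_smul]
    exact PBC.bc0_app_pullSec f φ f' (f.fiberι y) (f.fiber_fac y) L hyV x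
  · obtain ⟨m, c, x, h⟩ := hw
    refine ⟨m, fun i => r * c i, x, ?_⟩
    rw [Scheme.Modules.Hom.app_smul]
    show f'.appTop r • (show Γ((Scheme.Modules.pullback (f.fiberι y)).obj L, ⊤) from bc.app ⊤ w) = _
    rw [h, Finset.smul_sum]
    refine Finset.sum_congr rfl fun i _ => ?_
    rw [map_mul, mul_smul]
  · obtain ⟨m, c, x, h⟩ := ha
    obtain ⟨m', c', x', h'⟩ := hb
    refine ⟨m + m', Fin.append c c', Fin.append x x', ?_⟩
    rw [map_add, h, h', Fin.sum_univ_add]
    simp only [Fin.append_left, Fin.append_right]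

end Groth.Agent.VAFibre
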